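import Groth.Agent.GrpSch.K270.MB.Shape
import Groth.Agent.S1842
import Groth.Agent.Fdesc.GrpDimHom

/-!
# The torsion of an abelian variety over a field is finite of the degree of the multiplication (node A2 of S14306)

* `isPullback` : `X[N]` is the fibre of `[N]` over the origin;
* `main` : `X[N]` is finite and its rank is the degree of `[N]`;
* `finrank_eq` : the rank is `N ^ (2 g)`.
-/

set_option autoImplicit false
universe u
open CategoryTheory CategoryTheory.Limits MonoidalCategory CartesianMonoidalCategory MonObj AlgebraicGeometry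

namespace K515.GenTors

open K270.MB

section general

variable {S : Scheme.{u}} {X W : Over S} [GrpObj X] {w : W ⟶ X}

theorem mono_of_clSub [GrpObj W] (hw : IsClSub w) : Mono w := by
  have h1 : IsClosedImmersion w.left := hw.closed
  have h2 : Mono w.left := inferInstance
  exact Over.mono_of_mono_left w

/-- `X[N]` is the fibre of `[N]` over the origin. -/
theorem isPullback (hm : Mono w) (N : ℕ) (h : ∀ {T : Over S} (x : T ⟶ X), Fac w x ↔ x ^ N = 1) :
    IsPullback w (toUnit W) (𝟙 X ^ N) η[X] := by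
  have h0 : ∀ s : PullbackCone (𝟙 X ^ N) η[X], s.fst ^ N = 1 := by
    intro s
    have h1 := s.condition
    rw [MonObj.comp_pow, Category.comp_id] at h1
    rw [h1, toUnit_unique s.snd (toUnit s.pt)]
    rfl
  refine ⟨⟨?_⟩, ⟨PullbackCone.IsLimit.mk _ (fun s => ((h s.fst).2 (h0 s)).choose) ?_ ?_ ?_⟩⟩
  · rw [MonObj.comp_pow, Category.comp_id, (h w).1 ⟨𝟙 W, Category.id_comp w⟩]
    rfl
  · intro s
    exact ((h s.fst).2 (h0 s)).choose_spec
  · intro s
    exact toUnit_unique _ _
  · intro s m h1 h2
    rw [← cancel_mono w, h1]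
    exact ((h s.fst).2 (h0 s)).choose_spec.symm

end general

section field

variable {K : Type u} [Field K] (X : Over (Spec (CommRingCat.of K))) [GrpObj X] [IsProper X.hom]
  [GeometricallyIntegral X.hom] {W : Over (Spec (CommRingCat.of K))} [GrpObj W] (w : W ⟶ X) (hw : IsClSub w) (N : ℕ)
  (hN : 0 < N) (h : ∀ {T : Over (Spec (CommRingCat.of K))} (x : T ⟶ X), Fac w x ↔ x ^ N = 1)

include hw hN h in
/-- **Node A2.** The torsion `X[N]` is finite and its rank is the degree of `[N]`. -/
theorem main : IsFinite W.hom ∧ ∀ (s : ↥(Spec (CommRingCat.of K))) (t : X.left),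
    W.hom.finrank s = (𝟙 X ^ N : X ⟶ X).left.finrank t := by
  obtain ⟨g, hg, -⟩ := Groth.Agent.Fdesc.GrpDimHom.rtd_eq X
  obtain ⟨h1, h2, h3⟩ := Groth.Agent.S1842.pos_case K X g hg N hN
  have h4 := isPullback (mono_of_clSub hw) N h
  have h5 : IsPullback w.left W.hom (𝟙 X ^ N : X ⟶ X).left (η[X] : 𝟙_ (Over (Spec (CommRingCat.of K))) ⟶ X).left :=
    IsPullback.map (Over.forget _) h4
  refine ⟨MorphismProperty.of_isPullback h5 h1, fun s t => ?_⟩
  rw [Scheme.Hom.finrank_of_isPullback _ _ _ _ h5, h3, h3]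

include hw hN h in
/-- The rank of the torsion. -/
theorem finrank_eq (g : ℕ) (hg : topologicalKrullDim X.left = g) (s : ↥(Spec (CommRingCat.of K))) :
    W.hom.finrank s = N ^ (2 * g) := by
  rw [(main X w hw N hN h).2 s ((η[X] : 𝟙_ (Over (Spec (CommRingCat.of K))) ⟶ X).left s)]
  exact (Groth.Agent.S1842.pos_case K X g hg N hN).2.2 _

end field

end K515.GenTors
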